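import Groth.Agent.L12.FinCov.Trace
import Groth.Prelude.Def_CohB1
import Groth.Prelude.Def_SecTwist
import Groth.Prelude.Def_Pic

/-!
# Invertible modules with a pairing: local lemmas
-/

set_option autoImplicit false
set_option linter.style.haveILetI false
set_option backward.isDefEq.respectTransparency false
set_option backward.isDefEq.respectTransparency.types false

universe u

open CategoryTheory CategoryTheory.Limits AlgebraicGeometry TopologicalSpace Opposite TensorProduct MonoidalCategory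

noncomputable section

namespace Groth.L12.FinCov

variable {X : Scheme.{u}}

theorem mod_ext {M : X.Modules} {U : X.Opens} {s t : Γ(M, U)}
    (h : ∀ x ∈ U, ∃ (V : X.Opens) (hV : V ≤ U), x ∈ V ∧ rM M hV s = rM M hV t) : s = t := by
  choose V hV hxV heq using h
  exact TopCat.Sheaf.eq_of_locally_eq' (⟨M.presheaf, M.isSheaf⟩ : TopCat.Sheaf Ab X.toTopCat)
    (fun x : U => V x.1 x.2) U (fun x => homOfLE (hV x.1 x.2))
    (fun x hx => TopologicalSpace.Opens.mem_iSup.2 ⟨⟨x, hx⟩, hxV x hx⟩) s t (fun x => heq x.1 x.2)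

theorem isFinLocFreeOfRank_one_of_isInvertible {L : X.Modules} (hL : PicF.IsInvertible L) :
    FlatMod.IsFinLocFreeOfRank 1 L := fun x => by
  obtain ⟨U, hx, ⟨e⟩⟩ := hL x
  exact ⟨U, hx, ⟨e ≪≫ (coproductUniqueIso (fun _ : Fin 1 => Coh.structureModule (↑U : Scheme.{u}))).symm⟩⟩

/-- A frame near a point. -/
theorem exists_frame1 {L : X.Modules} (hL : FlatMod.IsFinLocFreeOfRank 1 L) (x : X) (O : X.Opens) (hx : x ∈ O) :
    ∃ (V : X.Opens) (e : Γ(L, V)), IsAffineOpen V ∧ x ∈ V ∧ V ≤ O ∧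
      ∀ (V' : X.Opens) (h : V' ≤ V), Function.Bijective fun a : Γ(X, V') => a • rM L h e := by
  obtain ⟨V, b, hV, hxV, hVO, hb⟩ := exists_basisOn_of_rank hL x O hx
  refine ⟨V, b 0, hV, hxV, hVO, fun V' h => ?_⟩
  have := (hb V' h).comp (Equiv.funUnique (Fin 1) Γ(X, V')).symm.bijective
  refine Eq.mp (congrArg Function.Bijective ?_) this
  funext a
  simp only [lc, Function.comp_apply, Fin.sum_univ_one]
  rfl

variable (L : X.Modules) (m : CohB1.tensorMod L L ⟶ Coh.structureModule X)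

theorem tmul_add_left (M N : X.Modules) (U : X.Opens) (a a' : Γ(M, U)) (b : Γ(N, U)) :
    SecTwist.tmul M N U (a + a') b = SecTwist.tmul M N U a b + SecTwist.tmul M N U a' b := by
  unfold SecTwist.tmul
  rw [TensorProduct.add_tmul]
  exact map_add _ _ _

theorem tmul_add_right (M N : X.Modules) (U : X.Opens) (a : Γ(M, U)) (b b' : Γ(N, U)) :
    SecTwist.tmul M N U a (b + b') = SecTwist.tmul M N U a b + SecTwist.tmul M N U a b' := by
  unfold SecTwist.tmul
  rw [TensorProduct.tmul_add]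
  exact map_add _ _ _

theorem tmul_smul_left (M N : X.Modules) (U : X.Opens) (r : Γ(X, U)) (a : Γ(M, U)) (b : Γ(N, U)) :
    SecTwist.tmul M N U (r • a) b =
      (r • (show Γ(CohB1.tensorMod M N, U) from SecTwist.tmul M N U a b) : Γ(CohB1.tensorMod M N, U)) := by
  unfold SecTwist.tmul
  let a' : (CohB1.toPMod M).obj (op U) := a
  let b' : (CohB1.toPMod N).obj (op U) := b
  let r' : (X.sheaf.obj ⋙ forget₂ CommRingCat RingCat).obj (op U) := r
  refine (congrArg ((SecTwist.toTensor M N).app (op U)).hom ?_).trans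
    (((SecTwist.toTensor M N).app (op U)).hom.map_smul r' (a' ⊗ₜ[X.sheaf.obj.obj (op U)] b'))
  exact (TensorProduct.smul_tmul' (R := X.sheaf.obj.obj (op U)) (R' := X.sheaf.obj.obj (op U)) r a' b').symm

theorem tmul_smul_right (M N : X.Modules) (U : X.Opens) (r : Γ(X, U)) (a : Γ(M, U)) (b : Γ(N, U)) :
    SecTwist.tmul M N U a (r • b) =
      (r • (show Γ(CohB1.tensorMod M N, U) from SecTwist.tmul M N U a b) : Γ(CohB1.tensorMod M N, U)) := by
  unfold SecTwist.tmul
  let a' : (CohB1.toPMod M).obj (op U) := a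
  let b' : (CohB1.toPMod N).obj (op U) := b
  let r' : (X.sheaf.obj ⋙ forget₂ CommRingCat RingCat).obj (op U) := r
  refine (congrArg ((SecTwist.toTensor M N).app (op U)).hom ?_).trans
    (((SecTwist.toTensor M N).app (op U)).hom.map_smul r' (a' ⊗ₜ[X.sheaf.obj.obj (op U)] b'))
  exact TensorProduct.tmul_smul (R := X.sheaf.obj.obj (op U)) (R' := X.sheaf.obj.obj (op U)) r a' b'

/-- The pairing on sections. -/
def bm (U : X.Opens) (l l' : Γ(L, U)) : Γ(X, U) :=
  (show Γ(X, U) from m.app U (SecTwist.tmul L L U l l'))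

variable {L m}

theorem bm_add_left (U : X.Opens) (a a' b : Γ(L, U)) :
    bm L m U (a + a') b = bm L m U a b + bm L m U a' b := by
  unfold bm
  rw [tmul_add_left]
  exact map_add _ _ _

theorem bm_add_right (U : X.Opens) (a b b' : Γ(L, U)) :
    bm L m U a (b + b') = bm L m U a b + bm L m U a b' := by
  unfold bm
  rw [tmul_add_right]
  exact map_add _ _ _

theorem bm_smul_left (U : X.Opens) (r : Γ(X, U)) (a b : Γ(L, U)) :
    bm L m U (r • a) b = r * bm L m U a b := by
  unfold bm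
  rw [tmul_smul_left]
  exact Scheme.Modules.Hom.app_smul m r _

theorem bm_smul_right (U : X.Opens) (r : Γ(X, U)) (a b : Γ(L, U)) :
    bm L m U a (r • b) = r * bm L m U a b := by
  unfold bm
  rw [tmul_smul_right]
  exact Scheme.Modules.Hom.app_smul m r _

theorem bm_res {U V : X.Opens} (h : V ≤ U) (a b : Γ(L, U)) :
    bm L m V (rM L h a) (rM L h b) = rO h (bm L m U a b) := by
  have h1 : rM (CohB1.tensorMod L L) h (SecTwist.tmul L L U a b) =
      SecTwist.tmul L L V (rM L h a) (rM L h b) := SecTwist.map_tmul L L (homOfLE h) a b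
  unfold bm
  rw [← h1]
  exact app_rM m h _

theorem bm_zero_left (U : X.Opens) (b : Γ(L, U)) : bm L m U 0 b = 0 := by
  simpa using bm_add_left (m := m) U 0 0 b

theorem bm_zero_right (U : X.Opens) (b : Γ(L, U)) : bm L m U b 0 = 0 := by
  simpa using bm_add_right (m := m) U b 0 0

theorem bm_comm (hL : FlatMod.IsFinLocFreeOfRank 1 L) (U : X.Opens) (a b : Γ(L, U)) :
    bm L m U a b = bm L m U b a := by
  refine fn_ext fun x hx => ?_
  obtain ⟨V, e, -, hxV, hVU, he⟩ := exists_frame1 hL x U hx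
  refine ⟨V, hVU, hxV, ?_⟩
  obtain ⟨p, hp⟩ := (he V le_rfl).2 (rM L hVU a)
  obtain ⟨q, hq⟩ := (he V le_rfl).2 (rM L hVU b)
  simp only [rM_self] at hp hq
  rw [← bm_res hVU, ← bm_res hVU, ← hp, ← hq, bm_smul_left, bm_smul_left, bm_smul_right, bm_smul_right]
  ring

theorem bm_assoc (hL : FlatMod.IsFinLocFreeOfRank 1 L) (U : X.Opens) (a b c : Γ(L, U)) :
    bm L m U a b • c = bm L m U b c • a := by
  refine mod_ext fun x hx => ?_
  obtain ⟨V, e, -, hxV, hVU, he⟩ := exists_frame1 hL x U hx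
  refine ⟨V, hVU, hxV, ?_⟩
  obtain ⟨p, hp⟩ := (he V le_rfl).2 (rM L hVU a)
  obtain ⟨q, hq⟩ := (he V le_rfl).2 (rM L hVU b)
  obtain ⟨r, hr⟩ := (he V le_rfl).2 (rM L hVU c)
  simp only [rM_self] at hp hq hr
  rw [rM_smul, rM_smul, ← bm_res hVU, ← bm_res hVU, ← hp, ← hq, ← hr, bm_smul_left, bm_smul_left,
    bm_smul_right, bm_smul_right, ← mul_smul, ← mul_smul]
  congr 1
  ring

end Groth.L12.FinCov
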