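import Groth.Prelude.Def_FlatMod2
import Mathlib.AlgebraicGeometry.Modules.Sheaf
import Mathlib.Algebra.Category.ModuleCat.Sheaf.PullbackFree

/-!
# Bases of modules on schemes over open subsets (light version)
-/

set_option autoImplicit false
set_option backward.isDefEq.respectTransparency false
set_option backward.isDefEq.respectTransparency.types false

universe u

open CategoryTheory CategoryTheory.Limits AlgebraicGeometry TopologicalSpace Opposite

noncomputable section

namespace Groth.L12.FinCov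

variable {X : Scheme.{u}} {M N : X.Modules} {W : X.Opens} {n : ℕ}

/-- Restriction of sections. -/
abbrev rM (M : X.Modules) {U V : X.Opens} (h : V ≤ U) (s : Γ(M, U)) : Γ(M, V) :=
  M.presheaf.map (homOfLE h).op s

/-- Restriction of functions. -/
abbrev rO {U V : X.Opens} (h : V ≤ U) (a : Γ(X, U)) : Γ(X, V) :=
  X.presheaf.map (homOfLE h).op a

lemma rM_rM (M : X.Modules) {U V W : X.Opens} (h : V ≤ U) (h' : W ≤ V) (s : Γ(M, U)) :
    rM M h' (rM M h s) = rM M (h'.trans h) s := by
  show (M.presheaf.map (homOfLE h).op ≫ M.presheaf.map (homOfLE h').op) s = _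
  rw [← Functor.map_comp]; rfl

lemma rM_self (M : X.Modules) {U : X.Opens} (h : U ≤ U) (s : Γ(M, U)) : rM M h s = s := by
  show M.presheaf.map _ s = _
  rw [show (homOfLE h).op = 𝟙 (op U) from rfl, CategoryTheory.Functor.map_id]; rfl

lemma rM_smul (M : X.Modules) {U V : X.Opens} (h : V ≤ U) (a : Γ(X, U)) (s : Γ(M, U)) :
    rM M h (a • s) = rO h a • rM M h s := M.map_smul _ _ _

lemma rO_rO {U V W : X.Opens} (h : V ≤ U) (h' : W ≤ V) (a : Γ(X, U)) :
    rO h' (rO h a) = rO (h'.trans h) a := by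
  show (X.presheaf.map (homOfLE h).op ≫ X.presheaf.map (homOfLE h').op) a = _
  rw [← Functor.map_comp]; rfl

lemma rO_self {U : X.Opens} (h : U ≤ U) (a : Γ(X, U)) : rO h a = a := by
  show X.presheaf.map _ a = _
  rw [show (homOfLE h).op = 𝟙 (op U) from rfl, CategoryTheory.Functor.map_id]; rfl

lemma app_rM (φ : M ⟶ N) {U V : X.Opens} (h : V ≤ U) (s : Γ(M, U)) :
    φ.app V (rM M h s) = rM N h (φ.app U s) :=
  PresheafOfModules.naturality_apply φ.val (homOfLE h).op s

/-- Linear combination of restricted sections. -/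
def lc (M : X.Modules) {W V : X.Opens} (b : Fin n → Γ(M, W)) (h : V ≤ W) (c : Fin n → Γ(X, V)) : Γ(M, V) :=
  ∑ i, c i • rM M h (b i)

theorem rM_lc (b : Fin n → Γ(M, W)) {V V' : X.Opens} (h : V ≤ W) (h' : V' ≤ V) (c : Fin n → Γ(X, V)) :
    rM M h' (lc M b h c) = lc M b (h'.trans h) fun i => rO h' (c i) := by
  refine (map_sum (M.presheaf.map (homOfLE h').op).hom _ _).trans (Finset.sum_congr rfl fun i _ => ?_)
  show rM M h' (c i • rM M h (b i)) = _
  rw [rM_smul, rM_rM]

theorem app_lc (φ : M ⟶ N) (b : Fin n → Γ(M, W)) {V : X.Opens} (h : V ≤ W) (c : Fin n → Γ(X, V)) :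
    φ.app V (lc M b h c) = lc N (fun i => φ.app W (b i)) h c := by
  refine (map_sum _ _ _).trans (Finset.sum_congr rfl fun i _ => ?_)
  rw [Scheme.Modules.Hom.app_smul, app_rM]

/-- `b` is a basis of `M` over `W`. -/
def IsBasisOn (M : X.Modules) (W : X.Opens) (b : Fin n → Γ(M, W)) : Prop :=
  ∀ (V : X.Opens) (h : V ≤ W), Function.Bijective (lc M b h)

theorem IsBasisOn.mono {b : Fin n → Γ(M, W)} (hb : IsBasisOn M W b) {W' : X.Opens} (h : W' ≤ W) :
    IsBasisOn M W' fun i => rM M h (b i) := fun V hV => by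
  rw [show lc M (fun i => rM M h (b i)) hV = lc M b (hV.trans h) from funext fun c =>
    Finset.sum_congr rfl fun i _ => by rw [rM_rM]]
  exact hb V _

/-- A morphism from a natural family of linear maps. -/
def mkHom (φ : ∀ V : X.Opens, Γ(M, V) → Γ(N, V)) (hadd : ∀ V s t, φ V (s + t) = φ V s + φ V t)
    (hsmul : ∀ V (r : Γ(X, V)) s, φ V (r • s) = r • φ V s)
    (hnat : ∀ (V V' : X.Opens) (h : V' ≤ V) (s : Γ(M, V)), φ V' (rM M h s) = rM N h (φ V s)) :
    M ⟶ N :=
  ⟨PresheafOfModules.homMk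
    { app := fun V => AddCommGrpCat.ofHom
        (AddMonoidHom.mk' (fun s : Γ(M, V.unop) => (φ V.unop s : Γ(N, V.unop))) (hadd V.unop))
      naturality := fun {V₁ V₂} i => by
        ext s
        exact hnat V₁.unop V₂.unop i.unop.le s }
    fun V r s => hsmul V.unop r s⟩

theorem mkHom_app (φ : ∀ V : X.Opens, Γ(M, V) → Γ(N, V)) (hadd : ∀ V s t, φ V (s + t) = φ V s + φ V t)
    (hsmul : ∀ V (r : Γ(X, V)) s, φ V (r • s) = r • φ V s)
    (hnat : ∀ (V V' : X.Opens) (h : V' ≤ V) (s : Γ(M, V)), φ V' (rM M h s) = rM N h (φ V s))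
    (V : X.Opens) (s : Γ(M, V)) : (mkHom φ hadd hsmul hnat).app V s = φ V s := rfl

theorem hom_ext {φ ψ : M ⟶ N} (h : ∀ V (s : Γ(M, V)), φ.app V s = ψ.app V s) : φ = ψ :=
  Scheme.Modules.hom_ext _ _ fun V => ConcreteCategory.hom_ext _ _ fun s => h V s

/-- Splitting data of the free module. -/
theorem exists_split (n : ℕ) {M : X.Modules} (e : M ≅ FlatMod.freeMod X n) :
    ∃ (a : Fin n → (Coh.structureModule X ⟶ M)) (b : Fin n → (M ⟶ Coh.structureModule X)),
      (∀ i j, a i ≫ b j = if i = j then 𝟙 _ else 0) ∧ ∑ i, b i ≫ a i = 𝟙 M := by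
  let π : Fin n → (FlatMod.freeMod X n ⟶ Coh.structureModule X) := fun j =>
    Sigma.desc fun i => if i = j then 𝟙 _ else 0
  refine ⟨fun i => Sigma.ι (fun _ : Fin n => Coh.structureModule X) i ≫ e.inv, fun j => e.hom ≫ π j,
    fun i j => ?_, ?_⟩
  · rw [Category.assoc, e.inv_hom_id_assoc, Sigma.ι_desc]
  · have h : ∑ i, π i ≫ Sigma.ι (fun _ : Fin n => Coh.structureModule X) i = 𝟙 (FlatMod.freeMod X n) := by
      refine Sigma.hom_ext _ _ fun k => ?_
      rw [Preadditive.comp_sum, Category.comp_id, Finset.sum_eq_single k]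
      · simp [π]
      · intro i _ hi
        simp [π, Ne.symm hi]
      · exact fun hk => (hk (Finset.mem_univ k)).elim
    simp only [Category.assoc, ← Preadditive.comp_sum]
    rw [show (∑ i, π i ≫ Sigma.ι (fun _ : Fin n => Coh.structureModule X) i ≫ e.inv) = e.inv by
      simp only [← Category.assoc, ← Preadditive.sum_comp, h, Category.id_comp]]
    exact e.hom_inv_id

theorem app_sum {ι : Type} (t : Finset ι) (f : ι → (M ⟶ N)) (V : X.Opens) (x : Γ(M, V)) :
    (∑ i ∈ t, f i).app V x = ∑ i ∈ t, (f i).app V x := by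
  classical
  induction t using Finset.induction_on with
  | empty => simp
  | insert a t ha ih =>
    rw [Finset.sum_insert ha, Finset.sum_insert ha, ← ih]
    rfl

/-- Sections of a split module are linear combinations. -/
theorem bijective_lc (a : Fin n → (Coh.structureModule X ⟶ M))
    (b : Fin n → (M ⟶ Coh.structureModule X)) (hab : ∀ i j, a i ≫ b j = if i = j then 𝟙 _ else 0)
    (hba : ∑ i, b i ≫ a i = 𝟙 M) (V : X.Opens) :
    Function.Bijective (lc M (fun i => (a i).app ⊤ (1 : Γ(X, ⊤))) (le_top (a := V))) := by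
  have ha : ∀ i (r : Γ(X, V)), (a i).app V r =
      r • rM M (le_top (a := V)) ((a i).app ⊤ (1 : Γ(X, ⊤))) := fun i r => by
    let one' : Γ(Coh.structureModule X, V) := (1 : Γ(X, V))
    have h1 : (a i).app V (r • one') = r • (a i).app V one' := Scheme.Modules.Hom.app_smul _ r one'
    have h2 : r • one' = r := mul_one r
    have h3 : rM M (le_top (a := V)) ((a i).app ⊤ (1 : Γ(X, ⊤))) = (a i).app V one' :=
      (PresheafOfModules.naturality_apply (a i).val (homOfLE (le_top (a := V))).op (1 : Γ(X, ⊤))).symm.trans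
        (congrArg ((a i).app V) (map_one (X.presheaf.map (homOfLE (le_top (a := V))).op).hom))
    exact ((congrArg ((a i).app V) h2).symm.trans h1).trans (congrArg (r • ·) h3.symm)
  unfold lc
  simp only [← ha]
  refine ⟨fun r r' h => funext fun j => ?_, fun x => ⟨fun i => (b i).app V x, ?_⟩⟩
  · have key : ∀ r : Fin n → Γ(X, V), (b j).app V (∑ i, (a i).app V (r i)) = r j := fun r => by
      rw [map_sum, Finset.sum_eq_single j]
      · exact (congr($(hab j j).app V (r j))).trans (by rw [if_pos rfl]; rfl)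
      · intro i _ hi
        exact (congr($(hab i j).app V (r i))).trans (by rw [if_neg hi]; rfl)
      · exact fun hj => (hj (Finset.mem_univ j)).elim
    rw [← key r, ← key r']
    exact congrArg ((b j).app V) h
  · refine Eq.trans ?_ (congr($(hba).app V x))
    exact (app_sum Finset.univ (fun i => b i ≫ a i) V x).symm

theorem exists_basisOn_of_iso (M : X.Modules) {U : X.Opens} (e : M.restrict U.ι ≅ FlatMod.freeMod (↑U) n) :
    ∃ s : Fin n → Γ(M, U.ι ''ᵁ ⊤), IsBasisOn M (U.ι ''ᵁ ⊤) s := by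
  obtain ⟨a, b, hab, hba⟩ := exists_split n e
  refine ⟨fun i => (a i).app ⊤ (1 : Γ(↑U, ⊤)), fun W' hW' => ?_⟩
  obtain ⟨V, rfl⟩ : ∃ V : (↑U : Scheme.{u}).Opens, U.ι ''ᵁ V = W' := by
    refine ⟨U.ι ⁻¹ᵁ W', ?_⟩
    rw [Scheme.Hom.image_preimage_eq_opensRange_inf]
    refine inf_eq_right.2 (le_trans hW' ?_)
    exact (Scheme.Hom.image_top_eq_opensRange U.ι).le
  let ee := (U.ι.appIso V).commRingCatIsoToRingEquiv
  refine (Function.Bijective.of_comp_iff _
    (Equiv.piCongrRight fun _ : Fin n => ee.symm.toEquiv).bijective).1 ?_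
  have h := bijective_lc a b hab hba V
  refine Eq.mp (congrArg Function.Bijective ?_) h
  funext r
  refine Finset.sum_congr rfl fun i _ => ?_
  rfl

theorem image_ι_top (U : X.Opens) : U.ι ''ᵁ ⊤ = U :=
  (Scheme.Hom.image_top_eq_opensRange U.ι).trans U.opensRange_ι

theorem exists_basisOn_of_rank (hM : FlatMod.IsFinLocFreeOfRank n M) (x : X) (O : X.Opens) (hx : x ∈ O) :
    ∃ (V : X.Opens) (b : Fin n → Γ(M, V)), IsAffineOpen V ∧ x ∈ V ∧ V ≤ O ∧ IsBasisOn M V b := by
  obtain ⟨U, hxU, ⟨e⟩⟩ := hM x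
  obtain ⟨s, hs⟩ := exists_basisOn_of_iso M e
  obtain ⟨_, ⟨V, hV, rfl⟩, hxV, hVO⟩ :=
    X.isBasis_affineOpens.exists_subset_of_mem_open (show x ∈ O ⊓ U.ι ''ᵁ ⊤ from ⟨hx, (image_ι_top U).ge hxU⟩)
      (O ⊓ U.ι ''ᵁ ⊤).2
  exact ⟨V, _, hV, hxV, fun y hy => (hVO hy).1, hs.mono fun y hy => (hVO hy).2⟩

theorem exists_basisOn (hM : FlatMod.IsFinLocFree M) (x : X) (O : X.Opens) (hx : x ∈ O) :
    ∃ (V : X.Opens) (n : ℕ) (b : Fin n → Γ(M, V)), IsAffineOpen V ∧ x ∈ V ∧ V ≤ O ∧ IsBasisOn M V b := by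
  obtain ⟨U, n, hxU, ⟨e⟩⟩ := hM x
  obtain ⟨s, hs⟩ := exists_basisOn_of_iso M e
  obtain ⟨_, ⟨V, hV, rfl⟩, hxV, hVO⟩ :=
    X.isBasis_affineOpens.exists_subset_of_mem_open (show x ∈ O ⊓ U.ι ''ᵁ ⊤ from ⟨hx, (image_ι_top U).ge hxU⟩)
      (O ⊓ U.ι ''ᵁ ⊤).2
  exact ⟨V, n, _, hV, hxV, fun y hy => (hVO hy).1, hs.mono fun y hy => (hVO hy).2⟩

/-- A module with a basis over everything is free. -/
theorem nonempty_iso_free {b : Fin n → Γ(M, W)} (hb : IsBasisOn M W b) (hW : ⊤ ≤ W) :
    Nonempty (M ≅ FlatMod.freeMod X n) := by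
  classical
  have hV : ∀ V : X.Opens, V ≤ W := fun V => le_top.trans hW
  have hsum : ∀ V (s : Γ(M, V)), ∃ c : Fin n → Γ(X, V), lc M b (hV V) c = s := fun V s => (hb V (hV V)).2 s
  choose co hco using hsum
  have coEq : ∀ V (s : Γ(M, V)) (c : Fin n → Γ(X, V)), lc M b (hV V) c = s → co V s = c :=
    fun V s c h => (hb V (hV V)).1 ((hco V s).trans h.symm)
  let β : Fin n → (M ⟶ Coh.structureModule X) := fun j =>
    mkHom (N := Coh.structureModule X) (fun V s => co V s j)
      (fun V s t => congrFun (coEq V (s + t) (co V s + co V t) (by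
        conv_rhs => rw [← hco V s, ← hco V t]
        simp only [lc, Pi.add_apply, add_smul, Finset.sum_add_distrib])) j)
      (fun V r s => congrFun (coEq V (r • s) (fun i => r * co V s i) (by
        conv_rhs => rw [← hco V s]
        simp only [lc, Finset.smul_sum, mul_smul])) j)
      (fun V V' h s => congrFun (coEq V' (rM M h s) (fun i => rO h (co V s i)) (by
        conv_rhs => rw [← hco V s]
        exact (rM_lc b (hV V) h _).symm)) j)
  let α : Fin n → (Coh.structureModule X ⟶ M) := fun i =>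
    mkHom (M := Coh.structureModule X) (fun V r => (show Γ(X, V) from r) • rM M (hV V) (b i))
      (fun V s t => add_smul (show Γ(X, V) from s) (show Γ(X, V) from t) _)
      (fun V r s => mul_smul (r : Γ(X, V)) (show Γ(X, V) from s) _)
      (fun V V' h s => by
        show rO h s • rM M (hV V') (b i) = rM M h ((show Γ(X, V) from s) • rM M (hV V) (b i))
        rw [rM_smul, rM_rM])
  have hαβ : ∀ i j, α i ≫ β j = if i = j then 𝟙 _ else 0 := fun i j => by
    refine hom_ext fun V r => ?_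
    show co V ((show Γ(X, V) from r) • rM M (hV V) (b i)) j = _
    have e : co V ((show Γ(X, V) from r) • rM M (hV V) (b i)) = fun k => if k = i then (show Γ(X, V) from r) else 0 :=
      coEq V _ _ (by simp only [lc, ite_smul, zero_smul, Finset.sum_ite_eq', Finset.mem_univ, if_true])
    rw [e]
    by_cases hij : i = j
    · subst hij; simp only [if_pos rfl]; rfl
    · simp only [if_neg hij, if_neg (Ne.symm hij)]; rfl
  refine ⟨⟨∑ j, β j ≫ Sigma.ι (fun _ : Fin n => Coh.structureModule X) j, Sigma.desc α, ?_, ?_⟩⟩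
  · simp only [Preadditive.sum_comp, Category.assoc, Sigma.ι_desc]
    refine hom_ext fun V s => ?_
    rw [app_sum]
    exact hco V s
  · refine Sigma.hom_ext _ _ fun i => ?_
    rw [Sigma.ι_desc_assoc, Preadditive.comp_sum, Category.comp_id, Finset.sum_eq_single i]
    · rw [← Category.assoc, hαβ, if_pos rfl, Category.id_comp]
    · intro j _ hji
      rw [← Category.assoc, hαβ, if_neg (Ne.symm hji), zero_comp]
    · exact fun hi => (hi (Finset.mem_univ i)).elim

/-- A basis over an open gives freeness of the restriction. -/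
theorem nonempty_restrict_iso_free {b : Fin n → Γ(M, W)} (hb : IsBasisOn M W b) :
    Nonempty (M.restrict W.ι ≅ FlatMod.freeMod (↑W) n) := by
  let b' : Fin n → Γ(M.restrict W.ι, ⊤) := fun i => rM M (image_ι_top W).le (b i)
  refine nonempty_iso_free (b := b') (fun V hV => ?_) le_rfl
  let ee := (W.ι.appIso V).commRingCatIsoToRingEquiv
  have h1 : W.ι ''ᵁ V ≤ W := ((W.ι.image_mono hV)).trans (image_ι_top W).le
  refine Eq.mp (congrArg Function.Bijective ?_)
    ((hb (W.ι ''ᵁ V) h1).comp (Equiv.piCongrRight fun _ : Fin n => ee.symm.toEquiv).bijective)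
  funext r
  simp only [lc, Function.comp_apply]
  refine Finset.sum_congr rfl fun i _ => ?_
  show ee.symm (r i) • rM M h1 (b i) = ee.symm (r i) • rM M (W.ι.image_mono hV) (rM M (image_ι_top W).le (b i))
  rw [rM_rM]

theorem isFinLocFreeOfRank_of_bases
    (h : ∀ x : X, ∃ (V : X.Opens) (b : Fin n → Γ(M, V)), x ∈ V ∧ IsBasisOn M V b) :
    FlatMod.IsFinLocFreeOfRank n M := fun x => by
  obtain ⟨V, b, hx, hb⟩ := h x
  exact ⟨V, hx, nonempty_restrict_iso_free hb⟩

end Groth.L12.FinCov
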