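import Groth.Agent.L12.FinCov.Trace
import Mathlib.Algebra.Category.Grp.Limits
import Mathlib.RingTheory.LocalRing.Basic

/-!
# The kernel of the trace
-/

set_option autoImplicit false
set_option linter.style.haveILetI false
set_option backward.isDefEq.respectTransparency false
set_option backward.isDefEq.respectTransparency.types false

universe u

open CategoryTheory CategoryTheory.Limits AlgebraicGeometry TopologicalSpace Opposite

noncomputable section

namespace Groth.L12.FinCov

variable {X : Scheme.{u}}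

attribute [local instance] algS

/-- Sections of a module over an open, as a functor. -/
abbrev secF (V : X.Opens) : X.Modules ⥤ AddCommGrpCat.{u} :=
  Scheme.Modules.toPresheafOfModules X ⋙ PresheafOfModules.toPresheaf _ ⋙
    (evaluation (Opens X)ᵒᵖ AddCommGrpCat.{u}).obj (op V)

theorem ker_sections {M N : X.Modules} (τ : M ⟶ N) (V : X.Opens) :
    Function.Injective ((kernel.ι τ).app V) ∧
      ∀ t : Γ(M, V), τ.app V t = 0 → ∃ k, (kernel.ι τ).app V k = t := by
  haveI : PreservesLimit (parallelPair τ 0) (secF V) := inferInstance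
  have hcomp := kernelComparison_comp_ι τ (secF V)
  haveI : IsIso (kernelComparison τ (secF V)) := inferInstance
  refine ⟨?_, fun t ht => ?_⟩
  · have hm : Mono ((secF V).map (kernel.ι τ)) := inferInstance
    exact (AddCommGrpCat.mono_iff_injective _).1 hm
  · let k0 := (AddCommGrpCat.kernelIsoKer ((secF V).map τ)).inv ⟨t, ht⟩
    refine ⟨inv (kernelComparison τ (secF V)) k0, ?_⟩
    show ((secF V).map (kernel.ι τ)) (inv (kernelComparison τ (secF V)) k0) = t
    rw [← hcomp, ← ConcreteCategory.comp_apply, IsIso.inv_hom_id_assoc, ← ConcreteCategory.comp_apply,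
      AddCommGrpCat.kernelIsoKer_inv_comp_ι]
    rfl

variable {A : RelSpec.QCAlg X} {τ : A.toModule ⟶ Coh.structureModule X}

/-- The value of a map to functions. -/
def tauV (τ : A.toModule ⟶ Coh.structureModule X) (V : X.Opens) : Sec A V →ₗ[Γ(X, V)] Γ(X, V) :=
  { toFun := fun a => (show Γ(X, V) from τ.app V (show Γ(A.toModule, V) from a))
    map_add' := fun a b => map_add (τ.app V).hom a b
    map_smul' := fun r a => Scheme.Modules.Hom.app_smul τ r (show Γ(A.toModule, V) from a) }

theorem tauV_res {U V : X.Opens} (h : V ≤ U) (a : Sec A U) :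
    tauV τ V (resA A h a) = rO h (tauV τ U a) :=
  app_rM τ h a

theorem tauV_eq_tr (hτ : FinCov.IsTrace A τ) {V : X.Opens} (hV : IsAffineOpen V) (hVb : Based A V)
    (a : Sec A V) : tauV τ V a = tr A V a :=
  isTrace_app hτ hV hVb a

theorem exists_goodB {d : ℕ} (hA : FlatMod.IsFinLocFreeOfRank d A.toModule) (x : X) (O : X.Opens)
    (hx : x ∈ O) :
    ∃ (V : X.Opens) (b : Fin d → Sec A V), IsAffineOpen V ∧ x ∈ V ∧ V ≤ O ∧ GoodB A V b := by
  obtain ⟨V, b, hV, hxV, hVO, hb⟩ := exists_basisOn_of_rank hA x O hx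
  exact ⟨V, _, hV, hxV, hVO, goodB_of_isBasisOn A hb⟩

theorem tauV_algebraMap {d : ℕ} (hA : FlatMod.IsFinLocFreeOfRank d A.toModule) (hτ : FinCov.IsTrace A τ)
    (U : X.Opens) (r : Γ(X, U)) : tauV τ U (algebraMap Γ(X, U) (Sec A U) r) = d • r := by
  classical
  refine fn_ext fun x hx => ?_
  obtain ⟨V, b, hV, hxV, hVU, hb⟩ := exists_goodB hA x U hx
  refine ⟨V, hVU, hxV, ?_⟩
  rw [← tauV_res hVU, resA_str, tauV_eq_tr hτ hV ⟨_, _, hb⟩, tr,
    Algebra.trace_algebraMap_of_basis (hb.basis le_rfl), Fintype.card_fin]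
  exact (map_nsmul (X.presheaf.map (homOfLE hVU).op).hom d r).symm

theorem strMod_comp_trace {d : ℕ} (hA : FlatMod.IsFinLocFreeOfRank d A.toModule)
    (hτ : FinCov.IsTrace A τ) : FinCov.strMod A ≫ τ = d • 𝟙 (Coh.structureModule X) := by
  refine hom_ext fun U r => ?_
  refine (tauV_algebraMap hA hτ U r).trans ?_
  induction d with
  | zero => rw [zero_smul, zero_smul]; rfl
  | succ d _ => 
    clear * -
    induction (d + 1) with
    | zero => rw [zero_smul, zero_smul]; rfl
    | succ e ih => rw [succ_nsmul, succ_nsmul]; exact congrArg (· + r) ih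

theorem isUnit_natCast_rO {d : ℕ} (hd : IsUnit ((d : Γ(X, ⊤)))) (V : X.Opens) : IsUnit ((d : Γ(X, V))) := by
  have := hd.map (X.presheaf.map (homOfLE (le_top (a := V))).op).hom
  rwa [map_natCast] at this

theorem isSplitEpi_trace {d : ℕ} (hA : FlatMod.IsFinLocFreeOfRank d A.toModule)
    (hτ : FinCov.IsTrace A τ) (hd : IsUnit ((d : Γ(X, ⊤)))) : IsSplitEpi τ := by
  obtain ⟨w, hw⟩ := hd.exists_left_inv
  let σ : Coh.structureModule X ⟶ A.toModule :=
    mkHom (fun V r => (algebraMap Γ(X, V) (Sec A V) (rO le_top w * (show Γ(X, V) from r)) : Sec A V))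
      (fun V r s => (congrArg (algebraMap Γ(X, V) (Sec A V)) (mul_add _ (show Γ(X, V) from r) (show Γ(X, V) from s))).trans
        (map_add _ _ _))
      (fun V r s => (congrArg (algebraMap Γ(X, V) (Sec A V)) (mul_left_comm _ (r : Γ(X, V)) (show Γ(X, V) from s))).trans
        (map_mul _ _ _))
      (fun V V' h s => by
        show algebraMap Γ(X, V') (Sec A V') (rO le_top w * rO h (show Γ(X, V) from s)) =
          resA A h (algebraMap Γ(X, V) (Sec A V) (rO le_top w * (show Γ(X, V) from s)))
        rw [resA_str]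
        congr 1
        refine Eq.trans ?_ (map_mul (X.presheaf.map (homOfLE h).op).hom _ _).symm
        exact congrArg (· * _) (rO_rO le_top h w).symm)
  refine IsSplitEpi.mk' ⟨σ, hom_ext fun V r => ?_⟩
  refine (tauV_algebraMap hA hτ V _).trans ?_
  rw [nsmul_eq_mul, ← mul_assoc]
  have h1 : (d : Γ(X, V)) * rO le_top w = 1 := by
    have := congrArg (X.presheaf.map (homOfLE (le_top (a := V))).op).hom hw
    rw [map_mul, map_one, map_natCast] at this
    rw [mul_comm]; exact this
  rw [h1, one_mul]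
  rfl

theorem not_mem_of_all {U : X.Opens} {x : X} (hx : x ∈ U) {n : ℕ} (f c : Fin n → Γ(X, U))
    (hu : x ∈ X.basicOpen (∑ i, c i * f i)) : ∃ i, x ∈ X.basicOpen (f i) := by
  by_contra hno
  push Not at hno
  rw [X.mem_basicOpen _ x hx, map_sum] at hu
  refine (?_ : ∑ i, (X.presheaf.germ U x hx).hom (c i * f i) ∈ IsLocalRing.maximalIdeal (X.presheaf.stalk x)) hu
  refine Ideal.sum_mem _ fun i _ => ?_
  rw [map_mul]
  refine Ideal.mul_mem_left _ _ ((IsLocalRing.mem_maximalIdeal _).2 fun hi => hno i ?_)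
  rw [X.mem_basicOpen _ x hx]
  exact hi

theorem exists_kernel_basis {e : ℕ} (hA : FlatMod.IsFinLocFreeOfRank (e + 1) A.toModule)
    (hτ : FinCov.IsTrace A τ) (hd : IsUnit (((e + 1 : ℕ) : Γ(X, ⊤)))) (x : X) (O : X.Opens) (hx : x ∈ O) :
    ∃ (W : X.Opens) (k : Fin e → Γ(kernel τ, W)), IsAffineOpen W ∧ x ∈ W ∧ W ≤ O ∧
      IsBasisOn (kernel τ) W k := by
  classical
  obtain ⟨V, b, hV, hxV, hVO, hb⟩ := exists_goodB hA x O hx
  set f : Fin (e + 1) → Γ(X, V) := fun l => tauV τ V (b l) with hf
  obtain ⟨c, hc⟩ := (hb V le_rfl).2 (algebraMap Γ(X, V) (Sec A V) 1)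
  simp only [resA_self] at hc
  have hcsum : ∑ l, c l * f l = ((e + 1 : ℕ) : Γ(X, V)) := by
    have := congrArg (tauV τ V) hc
    rw [map_sum, tauV_algebraMap hA hτ, nsmul_eq_mul, mul_one] at this
    simpa only [map_smul, smul_eq_mul] using this
  obtain ⟨i, hi⟩ := not_mem_of_all hxV f c (by
    rw [hcsum, X.basicOpen_of_isUnit (isUnit_natCast_rO hd V)]; exact hxV)
  set W := X.basicOpen (f i) with hW
  have hWV : W ≤ V := X.basicOpen_le _
  obtain ⟨g, hg⟩ : ∃ g : Γ(X, W), g * rO hWV (f i) = 1 :=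
    (RingedSpace.isUnit_res_basicOpen X.toRingedSpace (f i)).exists_left_inv
  let a : Fin (e + 1) → Sec A W := fun l => resA A hWV (b l)
  have ha : GoodB A W a := hb.mono hWV
  let t : Fin e → Sec A W := fun j =>
    a (i.succAbove j) - (rO hWV (f (i.succAbove j)) * g) • a i
  have hta : ∀ l, tauV τ W (a l) = rO hWV (f l) := fun l => tauV_res hWV (b l)
  have hti : rO hWV (f i) * g = 1 := by rw [mul_comm]; exact hg
  have ht : ∀ j, tauV τ W (t j) = 0 := fun j => by
    simp only [t, map_sub, map_smul, hta, smul_eq_mul]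
    rw [mul_assoc, hg, mul_one, sub_self]
  have hks := fun V' => ker_sections τ V'
  choose k hk using fun j => (hks W).2 (show Γ(A.toModule, W) from t j) (ht j)
  refine ⟨W, k, hV.basicOpen (f i), hi, hWV.trans hVO, fun V' h => ?_⟩
  -- combinations of `t`
  have himg : ∀ r : Fin e → Γ(X, V'), ((kernel.ι τ).app V' (lc (kernel τ) k h r) : Sec A V') =
      ∑ j, r j • resA A h (t j) := fun r => by
    rw [app_lc, funext hk]
    rfl
  have hexp : ∀ r : Fin e → Γ(X, V'), ∑ j, r j • resA A h (t j) =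
      ∑ l, (Fin.insertNth (α := fun _ => Γ(X, V')) i
        (-∑ j, r j * rO h (rO hWV (f (i.succAbove j)) * g)) r) l • resA A h (a l) := fun r => by
    rw [Fin.sum_univ_succAbove _ i, Fin.insertNth_apply_same]
    simp only [Fin.insertNth_apply_succAbove, t, map_sub, resA_smul, smul_sub, Finset.sum_sub_distrib,
      ← mul_smul, neg_smul, Finset.sum_smul]
    abel
  refine ⟨fun r r' hrr' => ?_, fun s => ?_⟩
  · have h1 := congrArg (fun z => ((kernel.ι τ).app V' z : Sec A V')) hrr'
    simp only [himg, hexp] at h1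
    have h2 := (ha V' h).1 h1
    funext j
    have h3 := congrFun h2 (i.succAbove j)
    simpa only [Fin.insertNth_apply_succAbove] using h3
  · let s' : Sec A V' := (kernel.ι τ).app V' s
    have hs' : tauV τ V' s' = 0 := by
      show τ.app V' ((kernel.ι τ).app V' s) = 0
      exact congr($(kernel.condition τ).app V' s)
    obtain ⟨al, hal⟩ := (ha V' h).2 s'
    refine ⟨fun j => al (i.succAbove j), (hks V').1 ?_⟩
    change ((kernel.ι τ).app V' (lc (kernel τ) k h fun j => al (i.succAbove j)) : Sec A V') = s'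
    rw [himg, hexp, ← hal]
    refine Finset.sum_congr rfl fun l _ => congrArg (· • _) ?_
    rcases Fin.eq_self_or_eq_succAbove i l with rfl | ⟨j, rfl⟩
    · rw [Fin.insertNth_apply_same]
      rw [← hal, map_sum] at hs'
      simp only [map_smul, tauV_res, hta, smul_eq_mul] at hs'
      rw [Fin.sum_univ_succAbove _ l] at hs'
      have hgV : rO h (rO hWV (f l)) * rO h g = 1 := by
        have := congrArg (X.presheaf.map (homOfLE h).op).hom hti
        rwa [map_mul, map_one] at this
      have hsum : ∑ j, al (l.succAbove j) * rO h (rO hWV (f (l.succAbove j)) * g) =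
          (∑ j, al (l.succAbove j) * rO h (rO hWV (f (l.succAbove j)))) * rO h g := by
        rw [Finset.sum_mul]
        refine Finset.sum_congr rfl fun j _ => ?_
        rw [mul_assoc]
        exact congrArg (_ * ·) (map_mul (X.presheaf.map (homOfLE h).op).hom _ _)
      rw [hsum, eq_neg_of_add_eq_zero_right hs', neg_mul, neg_neg, mul_assoc, hgV, mul_one]
    · rw [Fin.insertNth_apply_succAbove]

theorem isFinLocFreeOfRank_kernel {d : ℕ} (hA : FlatMod.IsFinLocFreeOfRank d A.toModule)
    (hτ : FinCov.IsTrace A τ) (hd : IsUnit ((d : Γ(X, ⊤)))) :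
    FlatMod.IsFinLocFreeOfRank (d - 1) (kernel τ) := by
  refine isFinLocFreeOfRank_of_bases fun x => ?_
  obtain _ | e := d
  · exfalso
    rw [Nat.cast_zero, isUnit_zero_iff] at hd
    have := congrArg (X.presheaf.germ ⊤ x trivial).hom hd
    rw [map_zero, map_one] at this
    exact zero_ne_one this
  · obtain ⟨W, k, -, hxW, -, hk⟩ := exists_kernel_basis hA hτ hd x ⊤ trivial
    exact ⟨W, k, hxW, hk⟩

end Groth.L12.FinCov
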