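import Groth.Agent.L12.FinCov.Frame
import Groth.Agent.L12.FinCov.Kernel

/-!
# Rank two algebras
-/

set_option autoImplicit false
set_option linter.style.haveILetI false
set_option backward.isDefEq.respectTransparency false
set_option backward.isDefEq.respectTransparency.types false

universe u

open CategoryTheory CategoryTheory.Limits AlgebraicGeometry TopologicalSpace Opposite TensorProduct MonoidalCategory

noncomputable section

namespace Groth.L12.FinCov

variable {X : Scheme.{u}} {A : RelSpec.QCAlg X} {L : X.Modules} (j : L ⟶ A.toModule)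

attribute [local instance] algS

/-- Sections of the image of `L`. -/
def jS (U : X.Opens) (l : Γ(L, U)) : Sec A U := j.app U l

lemma jS_smul (U : X.Opens) (r : Γ(X, U)) (l : Γ(L, U)) : jS j U (r • l) = r • jS j U l :=
  Scheme.Modules.Hom.app_smul j r l

lemma jS_res {U V : X.Opens} (h : V ≤ U) (l : Γ(L, U)) : resA A h (jS j U l) = jS j V (rM L h l) :=
  (app_rM j h l).symm

/-- `A = O ⊕ L` on every open. -/
def IsSplit : Prop := ∀ U : X.Opens,
  Function.Bijective fun p : Γ(X, U) × Γ(L, U) => algebraMap Γ(X, U) (Sec A U) p.1 + jS j U p.2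

variable {j}

theorem goodB_of_split (hj : IsSplit j) {V : X.Opens} (e : Γ(L, V))
    (he : ∀ (V' : X.Opens) (h : V' ≤ V), Function.Bijective fun a : Γ(X, V') => a • rM L h e) :
    GoodB A V ![(1 : Sec A V), jS j V e] := by
  intro V' h
  have hf : (fun c : Fin 2 → Γ(X, V') => ∑ i, c i • resA A h ((![(1 : Sec A V), jS j V e]) i)) =
      (fun p : Γ(X, V') × Γ(L, V') => algebraMap Γ(X, V') (Sec A V') p.1 + jS j V' p.2) ∘
        fun c : Fin 2 → Γ(X, V') => (c 0, c 1 • rM L h e) := by
    funext c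
    simp [Fin.sum_univ_two, Algebra.smul_def, jS_res, jS_smul]
  rw [hf]
  refine (hj V').comp ⟨fun c c' hcc => ?_, fun p => ?_⟩
  · have h0 : c 0 = c' 0 := congrArg Prod.fst hcc
    have h1 : c 1 = c' 1 := (he V' h).1 (congrArg Prod.snd hcc)
    funext i
    fin_cases i
    · exact h0
    · exact h1
  · obtain ⟨a, ha⟩ := (he V' h).2 p.2
    exact ⟨![p.1, a], Prod.ext (by simp) (by simpa using ha)⟩

theorem isFinLocFreeOfRank_two (hj : IsSplit j) (hL : FlatMod.IsFinLocFreeOfRank 1 L) :
    FlatMod.IsFinLocFreeOfRank 2 A.toModule := by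
  refine isFinLocFreeOfRank_of_bases fun x => ?_
  obtain ⟨V, e, -, hxV, -, he⟩ := exists_frame1 hL x ⊤ trivial
  exact ⟨V, _, hxV, (goodB_of_split hj e he).isBasisOn⟩

/-- The trace of `ε` in a basis `1, ε` with `ε * ε = p + q ε`. -/
theorem trace_gen {R S : Type u} [CommRing R] [CommRing S] [Algebra R S] (b : Module.Basis (Fin 2) R S)
    (h0 : b 0 = 1) {p q : R} (h : b 1 * b 1 = p • b 0 + q • b 1) : Algebra.trace R S (b 1) = q := by
  classical
  rw [Algebra.trace_eq_matrix_trace b, Matrix.trace, Fin.sum_univ_two, Matrix.diag_apply, Matrix.diag_apply,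
    Algebra.leftMulMatrix_eq_repr_mul, Algebra.leftMulMatrix_eq_repr_mul, h, h0, mul_one]
  simp [← h0]

theorem tauV_jS (hj : IsSplit j) (hL : FlatMod.IsFinLocFreeOfRank 1 L)
    (m : CohB1.tensorMod L L ⟶ Coh.structureModule X)
    (hm : ∀ (U : X.Opens) (l l' : Γ(L, U)), jS j U l * jS j U l' = algebraMap Γ(X, U) (Sec A U) (bm L m U l l'))
    {τ : A.toModule ⟶ Coh.structureModule X} (hτ : FinCov.IsTrace A τ) (U : X.Opens) (l : Γ(L, U)) :
    tauV τ U (jS j U l) = 0 := by
  refine fn_ext fun x hx => ?_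
  obtain ⟨V, e, hV, hxV, hVU, he⟩ := exists_frame1 hL x U hx
  refine ⟨V, hVU, hxV, ?_⟩
  have hb := goodB_of_split hj e he
  obtain ⟨p, hp⟩ := (he V le_rfl).2 (rM L hVU l)
  rw [← tauV_res hVU, jS_res, ← hp]
  simp only [rM_self, jS_smul, map_smul]
  have h0 : hb.basis le_rfl 0 = 1 := by rw [hb.basis_apply]; simp
  have h1 : hb.basis le_rfl 1 = jS j V e := by rw [hb.basis_apply]; simp [resA_self]
  rw [tauV_eq_tr hτ hV ⟨_, _, hb⟩, tr, ← h1, trace_gen (hb.basis le_rfl) h0 (p := bm L m V e e) (q := 0) (by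
    rw [zero_smul, add_zero, h1, hm, h0, Algebra.smul_def, mul_one]), smul_zero]
  exact (map_zero (X.presheaf.map (homOfLE hVU).op).hom).symm

theorem trace_eq_zero_iff (hj : IsSplit j) (hL : FlatMod.IsFinLocFreeOfRank 1 L)
    (m : CohB1.tensorMod L L ⟶ Coh.structureModule X)
    (hm : ∀ (U : X.Opens) (l l' : Γ(L, U)), jS j U l * jS j U l' = algebraMap Γ(X, U) (Sec A U) (bm L m U l l'))
    {τ : A.toModule ⟶ Coh.structureModule X} (hτ : FinCov.IsTrace A τ) (h2 : IsUnit (2 : Γ(X, ⊤)))
    (U : X.Opens) (a : Sec A U) : tauV τ U a = 0 ↔ a ∈ Set.range (jS j U) := by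
  constructor
  · intro h
    obtain ⟨⟨s, l⟩, rfl⟩ := (hj U).2 a
    refine ⟨l, ?_⟩
    simp only [map_add, tauV_algebraMap (isFinLocFreeOfRank_two hj hL) hτ, tauV_jS hj hL m hm hτ, add_zero,
      nsmul_eq_mul] at h
    have hs : s = 0 := (isUnit_natCast_rO (d := 2) (by simpa using h2) U).mul_right_eq_zero.1 h
    simp [hs]
  · rintro ⟨l, rfl⟩
    exact tauV_jS hj hL m hm hτ U l

theorem exists_hom_of_bilinear (L : X.Modules) (β : ∀ U : X.Opens, Γ(L, U) → Γ(L, U) → Γ(X, U))
    (hl : ∀ U a a' b, β U (a + a') b = β U a b + β U a' b)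
    (hr : ∀ U a b b', β U a (b + b') = β U a b + β U a b')
    (hsl : ∀ U r a b, β U (r • a) b = r * β U a b) (hsr : ∀ U r a b, β U a (r • b) = r * β U a b)
    (hres : ∀ (U V : X.Opens) (h : V ≤ U) a b, β V (rM L h a) (rM L h b) = rO h (β U a b)) :
    ∃ m : CohB1.tensorMod L L ⟶ Coh.structureModule X, ∀ U a b, bm L m U a b = β U a b := by
  let P : CohB1.PMod X := CohB1.tensorPre L L
  let comp : ∀ U : (Opens X)ᵒᵖ, P.obj U ⟶ (CohB1.toPMod (Coh.structureModule X)).obj U := fun U =>
    ModuleCat.ofHom (Y := ((CohB1.toPMod (Coh.structureModule X)).obj U : Type u))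
      (TensorProduct.lift (R := X.sheaf.obj.obj U) (M := (CohB1.toPMod L).obj U) (N := (CohB1.toPMod L).obj U)
        (P₂ := ((CohB1.toPMod (Coh.structureModule X)).obj U : Type u))
      (LinearMap.mk₂ (X.sheaf.obj.obj U)
        (fun (a : (CohB1.toPMod L).obj U) (b : (CohB1.toPMod L).obj U) =>
          (show ((CohB1.toPMod (Coh.structureModule X)).obj U : Type u) from β U.unop a b))
        (fun a a' b => hl U.unop a a' b) (fun r a b => hsl U.unop r a b)
        (fun a b b' => hr U.unop a b b') (fun r a b => hsr U.unop r a b)))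
  let φ : P ⟶ CohB1.toPMod (Coh.structureModule X) :=
    { app := comp
      naturality := fun {U V} i => by
        refine ModuleCat.hom_ext (LinearMap.ext fun z => ?_)
        induction z using TensorProduct.induction_on with
        | zero => simp only [map_zero]
        | tmul a b => exact hres U.unop V.unop i.unop.le a b
        | add z w hz hw => simp only [map_add, hz, hw] }
  let ψ := ((PresheafOfModules.sheafificationAdjunction (𝟙 X.ringCatSheaf.obj)).homEquiv
    (show X.PresheafOfModules from P) (Coh.structureModule X)).symm φ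
  refine ⟨ψ, fun U a b => ?_⟩
  have h1 := Equiv.apply_symm_apply ((PresheafOfModules.sheafificationAdjunction (𝟙 X.ringCatSheaf.obj)).homEquiv
    (show X.PresheafOfModules from P) (Coh.structureModule X)) φ
  rw [Adjunction.homEquiv_unit] at h1
  exact congr(($h1).app (op U) ((a : (CohB1.toPMod L).obj (op U)) ⊗ₜ[X.sheaf.obj.obj (op U)]
    (b : (CohB1.toPMod L).obj (op U))))

theorem exists_isDblAlg_kernel (hA : FlatMod.IsFinLocFreeOfRank 2 A.toModule)
    {τ : A.toModule ⟶ Coh.structureModule X} (hτ : FinCov.IsTrace A τ) (h2 : IsUnit (2 : Γ(X, ⊤))) :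
    ∃ m : CohB1.tensorMod (kernel τ) (kernel τ) ⟶ Coh.structureModule X,
      IsSplit (kernel.ι τ) ∧ ∀ (U : X.Opens) (l l' : Γ(kernel τ, U)),
        jS (kernel.ι τ) U l * jS (kernel.ι τ) U l' =
          algebraMap Γ(X, U) (Sec A U) (bm (kernel τ) m U l l') := by
  classical
  set ι' := kernel.ι τ with hι'
  have hd : IsUnit (((2 : ℕ) : Γ(X, ⊤))) := by simpa using h2
  have hu : ∀ U : X.Opens, IsUnit (((2 : ℕ) : Γ(X, U))) := fun U => isUnit_natCast_rO hd U
  have hι0 : ∀ U l, tauV τ U (jS ι' U l) = 0 := fun U l => congr($(kernel.condition τ).app U l)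
  have hsplit : IsSplit ι' := fun U => by
    refine ⟨fun p q h => ?_, fun a => ?_⟩
    · have ht := congrArg (tauV τ U) h
      simp only [map_add, hι0, add_zero, tauV_algebraMap hA hτ, nsmul_eq_mul] at ht
      have hp : p.1 = q.1 := (hu U).mul_left_cancel ht
      simp only [hp, add_right_inj] at h
      exact Prod.ext hp ((ker_sections τ U).1 h)
    · obtain ⟨s, hs⟩ : ∃ s, ((2 : ℕ) : Γ(X, U)) * s = tauV τ U a :=
        ⟨((hu U).unit⁻¹ : Γ(X, U)ˣ) * tauV τ U a, by rw [← mul_assoc, (hu U).mul_val_inv, one_mul]⟩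
      have hb : tauV τ U (a - algebraMap Γ(X, U) (Sec A U) s) = 0 := by
        rw [map_sub, tauV_algebraMap hA hτ, nsmul_eq_mul, hs, sub_self]
      obtain ⟨l, hl⟩ := (ker_sections τ U).2 (show Γ(A.toModule, U) from (a - algebraMap Γ(X, U) (Sec A U) s)) hb
      refine ⟨(s, l), ?_⟩
      have hl' : jS ι' U l = a - algebraMap Γ(X, U) (Sec A U) s := hl
      simp only [hl']
      abel
  choose s hs using fun U => (hu U).exists_left_inv
  let β : ∀ U : X.Opens, Γ(kernel τ, U) → Γ(kernel τ, U) → Γ(X, U) := fun U l l' =>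
    s U * tauV τ U (jS ι' U l * jS ι' U l')
  have hβ : ∀ U l l', jS ι' U l * jS ι' U l' = algebraMap Γ(X, U) (Sec A U) (β U l l') := by
    intro U l l'
    obtain ⟨⟨a, k⟩, hak⟩ := (hsplit U).2 (jS ι' U l * jS ι' U l')
    simp only at hak
    have ha : a = β U l l' := by
      simp only [β, ← hak, map_add, hι0, add_zero, tauV_algebraMap hA hτ, nsmul_eq_mul]
      rw [← mul_assoc, hs, one_mul]
    have hk : k = 0 := by
      refine mod_ext fun x hx => ?_
      obtain ⟨V, kb, hV, hxV, hVU, hkb⟩ := exists_kernel_basis (e := 1) hA hτ hd x U hx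
      refine ⟨V, hVU, hxV, ?_⟩
      have he : ∀ (V' : X.Opens) (h : V' ≤ V),
          Function.Bijective fun c : Γ(X, V') => c • rM (kernel τ) h (kb 0) := fun V' h => by
        refine Eq.mp (congrArg Function.Bijective ?_)
          ((hkb V' h).comp (Equiv.funUnique (Fin 1) Γ(X, V')).symm.bijective)
        funext c
        simp only [lc, Function.comp_apply, Fin.sum_univ_one]
        rfl
      have hb := goodB_of_split hsplit (kb 0) he
      obtain ⟨⟨p, q0⟩, hpq⟩ := (hsplit V).2 (jS ι' V (kb 0) * jS ι' V (kb 0))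
      obtain ⟨q, hq⟩ := (he V le_rfl).2 q0
      simp only [rM_self] at hq
      simp only [← hq, jS_smul] at hpq
      have h0 : hb.basis le_rfl 0 = 1 := by rw [hb.basis_apply]; simp
      have h1 : hb.basis le_rfl 1 = jS ι' V (kb 0) := by rw [hb.basis_apply]; simp [resA_self]
      have hq0 : q = 0 := by
        have ht := trace_gen (hb.basis le_rfl) h0 (p := p) (q := q) (by
          rw [h1, h0, ← Algebra.algebraMap_eq_smul_one]; exact hpq.symm)
        rw [h1] at ht
        exact ht.symm.trans ((tauV_eq_tr hτ hV ⟨_, _, hb⟩ _).symm.trans (hι0 V (kb 0)))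
      rw [hq0, zero_smul, add_zero] at hpq
      obtain ⟨c, hc⟩ := (he V le_rfl).2 (rM (kernel τ) hVU l)
      obtain ⟨c', hc'⟩ := (he V le_rfl).2 (rM (kernel τ) hVU l')
      simp only [rM_self] at hc hc'
      have h3 := congrArg (resA A hVU) hak
      rw [map_add, map_mul, resA_str, jS_res, jS_res, jS_res, ← hc, ← hc', jS_smul, jS_smul,
        smul_mul_smul_comm, ← hpq, Algebra.smul_def, ← map_mul] at h3
      have h4 := (hsplit V).1 (a₁ := (rO hVU a, rM (kernel τ) hVU k)) (a₂ := (c * c' * p, 0)) (by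
        refine h3.trans ?_
        simp [jS])
      exact (congrArg Prod.snd h4).trans (map_zero ((kernel τ).presheaf.map (homOfLE hVU).op).hom).symm
    rw [← hak, hk, ha]
    simp [jS]
  have hinj : ∀ U (r r' : Γ(X, U)), algebraMap Γ(X, U) (Sec A U) r = algebraMap Γ(X, U) (Sec A U) r' → r = r' :=
    fun U r r' h => congrArg Prod.fst ((hsplit U).1 (a₁ := (r, 0)) (a₂ := (r', 0)) (by simp [h]))
  have hadd : ∀ U (l l' : Γ(kernel τ, U)), jS ι' U (l + l') = jS ι' U l + jS ι' U l' := fun U l l' =>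
    map_add (ι'.app U).hom l l'
  obtain ⟨m, hm⟩ := exists_hom_of_bilinear (kernel τ) β
    (fun U a a' b => hinj U _ _ (by rw [map_add, ← hβ, ← hβ, ← hβ, hadd, add_mul]))
    (fun U a b b' => hinj U _ _ (by rw [map_add, ← hβ, ← hβ, ← hβ, hadd, mul_add]))
    (fun U r a b => hinj U _ _ (by
      refine Eq.trans ?_ (map_mul _ r (β U a b)).symm
      rw [← hβ, ← hβ, jS_smul, Algebra.smul_def, mul_assoc]))
    (fun U r a b => hinj U _ _ (by
      refine Eq.trans ?_ (map_mul _ r (β U a b)).symm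
      rw [← hβ, ← hβ, jS_smul, Algebra.smul_def, mul_left_comm]))
    (fun U V h a b => hinj V _ _ (by rw [← resA_str, ← hβ, ← hβ, map_mul, jS_res, jS_res]))
  exact ⟨m, hsplit, fun U l l' => by rw [hm, hβ]⟩

end Groth.L12.FinCov
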