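import Groth.Agent.L12.FinCov.Basis
import Groth.Prelude.Def_FinCov
import Mathlib.RingTheory.Localization.NormTrace
import Mathlib.RingTheory.Trace.Basic
import Mathlib.Topology.Sheaves.SheafCondition.UniqueGluing
import Mathlib.LinearAlgebra.Basis.Basic

/-!
# The trace of a finite locally free quasi-coherent algebra
-/

set_option autoImplicit false
set_option linter.style.haveILetI false
set_option backward.isDefEq.respectTransparency false
set_option backward.isDefEq.respectTransparency.types false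

universe u

open CategoryTheory CategoryTheory.Limits AlgebraicGeometry TopologicalSpace Opposite

noncomputable section

namespace Groth.L12.FinCov

variable {X : Scheme.{u}} (A : RelSpec.QCAlg X)

/-- Sections of the algebra. -/
abbrev Sec (U : X.Opens) : Type u := A.presheaf.obj (op U)

/-- The algebra structure on sections. -/
@[instance_reducible]
def algS (U : X.Opens) : Algebra Γ(X, U) (Sec A U) := (A.str.app (op U)).hom.toAlgebra

attribute [local instance] algS

/-- Restriction in the algebra. -/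
def resA {U V : X.Opens} (h : V ≤ U) : Sec A U →+* Sec A V := (A.presheaf.map (homOfLE h).op).hom

theorem resA_str {U V : X.Opens} (h : V ≤ U) (r : Γ(X, U)) :
    resA A h (algebraMap Γ(X, U) (Sec A U) r) = algebraMap Γ(X, V) (Sec A V) (rO h r) :=
  (ConcreteCategory.congr_hom (A.str.naturality (homOfLE h).op) r).symm

theorem resA_smul {U V : X.Opens} (h : V ≤ U) (r : Γ(X, U)) (a : Sec A U) :
    resA A h (r • a) = rO h r • resA A h a := by
  rw [Algebra.smul_def, map_mul, resA_str, ← Algebra.smul_def]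

theorem resA_resA {U V W : X.Opens} (h : V ≤ U) (h' : W ≤ V) (a : Sec A U) :
    resA A h' (resA A h a) = resA A (h'.trans h) a := by
  show (A.presheaf.map (homOfLE h).op ≫ A.presheaf.map (homOfLE h').op) a = _
  rw [← Functor.map_comp]; rfl

theorem resA_self {U : X.Opens} (h : U ≤ U) (a : Sec A U) : resA A h a = a := by
  show A.presheaf.map _ a = _
  rw [show (homOfLE h).op = 𝟙 (op U) from rfl, CategoryTheory.Functor.map_id]; rfl

/-- Bases over an open in ring language. -/
def GoodB {n : ℕ} (W : X.Opens) (b : Fin n → Sec A W) : Prop :=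
  ∀ (V : X.Opens) (h : V ≤ W), Function.Bijective fun c : Fin n → Γ(X, V) =>
    ∑ i, c i • resA A h (b i)

theorem goodB_of_isBasisOn {n : ℕ} {W : X.Opens} {b : Fin n → Γ(A.toModule, W)}
    (hb : IsBasisOn A.toModule W b) : GoodB A W (fun i => (b i : Sec A W)) := fun V h => hb V h

theorem GoodB.isBasisOn {n : ℕ} {W : X.Opens} {b : Fin n → Sec A W} (hb : GoodB A W b) :
    IsBasisOn A.toModule W (fun i => (b i : Γ(A.toModule, W))) := fun V h => hb V h

variable {A}

theorem GoodB.mono {n : ℕ} {W : X.Opens} {b : Fin n → Sec A W} (hb : GoodB A W b) {W' : X.Opens}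
    (h : W' ≤ W) : GoodB A W' fun i => resA A h (b i) := fun V hV => by
  simp only [resA_resA]
  exact hb V _

/-- The basis of sections. -/
def GoodB.basis {n : ℕ} {W : X.Opens} {b : Fin n → Sec A W} (hb : GoodB A W b) {V : X.Opens}
    (h : V ≤ W) : Module.Basis (Fin n) Γ(X, V) (Sec A V) :=
  Module.Basis.ofEquivFun
    (LinearEquiv.ofBijective (Fintype.linearCombination Γ(X, V) fun i => resA A h (b i)) (by
      convert hb V h using 1
      funext c
      exact Fintype.linearCombination_apply Γ(X, V) _ c)).symm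

theorem GoodB.basis_apply {n : ℕ} {W : X.Opens} {b : Fin n → Sec A W} (hb : GoodB A W b) {V : X.Opens}
    (h : V ≤ W) (i : Fin n) : hb.basis h i = resA A h (b i) := by
  classical
  simp [GoodB.basis, Fintype.linearCombination_apply, Pi.single_apply, ite_smul]

variable (A)

/-- The trace over an open. -/
def tr (U : X.Opens) : Sec A U →ₗ[Γ(X, U)] Γ(X, U) := Algebra.trace Γ(X, U) (Sec A U)

/-- An open over which `A` has a basis. -/
def Based (V : X.Opens) : Prop := ∃ (n : ℕ) (b : Fin n → Sec A V), GoodB A V b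

variable {A}

theorem Based.mono {V V' : X.Opens} (hV : Based A V) (h : V' ≤ V) : Based A V' := by
  obtain ⟨n, b, hb⟩ := hV
  exact ⟨n, _, hb.mono h⟩

theorem trace_map_of_basis {R S R' S' : Type u} [CommRing R] [CommRing S] [CommRing R'] [CommRing S']
    [Algebra R S] [Algebra R' S'] {ι : Type} [Fintype ι] [DecidableEq ι] (c : Module.Basis ι R S)
    (c' : Module.Basis ι R' S') (f : R →+* R') (g : S →+* S')
    (hfg : ∀ r, g (algebraMap R S r) = algebraMap R' S' (f r)) (hc : ∀ i, g (c i) = c' i) (x : S) :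
    Algebra.trace R' S' (g x) = f (Algebra.trace R S x) := by
  have hg : ∀ y : S, g y = ∑ k, f (c.repr y k) • c' k := fun y => by
    conv_lhs => rw [← c.sum_repr y]
    rw [map_sum]
    refine Finset.sum_congr rfl fun k _ => ?_
    rw [Algebra.smul_def, map_mul, hfg, hc, ← Algebra.smul_def]
  rw [Algebra.trace_eq_matrix_trace c', Algebra.trace_eq_matrix_trace c, Matrix.trace, Matrix.trace,
    map_sum]
  refine Finset.sum_congr rfl fun i _ => ?_
  rw [Matrix.diag_apply, Matrix.diag_apply, Algebra.leftMulMatrix_eq_repr_mul,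
    Algebra.leftMulMatrix_eq_repr_mul, ← hc, ← map_mul, hg]
  exact congrFun (c'.repr_sum_self fun k => f (c.repr (x * c i) k)) i

theorem tr_res {V V' : X.Opens} (hV : Based A V) (h : V' ≤ V) (a : Sec A V) :
    tr A V' (resA A h a) = rO h (tr A V a) := by
  classical
  obtain ⟨n, b, hb⟩ := hV
  exact trace_map_of_basis (hb.basis le_rfl) (hb.basis h) (X.presheaf.map (homOfLE h).op).hom (resA A h)
    (fun r => resA_str A h r) (fun i => by rw [hb.basis_apply, hb.basis_apply, resA_resA]) a

theorem tr_basicOpen {U : X.Opens} (hU : IsAffineOpen U) [Module.Free Γ(X, U) (Sec A U)]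
    [Module.Finite Γ(X, U) (Sec A U)] (r : Γ(X, U)) (a : Sec A U) :
    tr A (X.basicOpen r) (resA A (X.basicOpen_le r) a) = rO (X.basicOpen_le r) (tr A U a) := by
  letI : Algebra Γ(X, U) Γ(X, X.basicOpen r) := (X.presheaf.map (homOfLE (X.basicOpen_le r)).op).hom.toAlgebra
  haveI : IsLocalization.Away r Γ(X, X.basicOpen r) := hU.isLocalization_basicOpen r
  letI : Algebra (Sec A U) (Sec A (X.basicOpen r)) := (resA A (X.basicOpen_le r)).toAlgebra
  haveI h1 : IsLocalization.Away (algebraMap Γ(X, U) (Sec A U) r) (Sec A (X.basicOpen r)) := A.isQC U hU r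
  haveI : IsLocalization (Algebra.algebraMapSubmonoid (Sec A U) (Submonoid.powers r)) (Sec A (X.basicOpen r)) := by
    rw [Algebra.algebraMapSubmonoid, Submonoid.map_powers]
    exact h1
  letI : Algebra Γ(X, U) (Sec A (X.basicOpen r)) :=
    ((resA A (X.basicOpen_le r)).comp (algebraMap Γ(X, U) (Sec A U))).toAlgebra
  haveI : IsScalarTower Γ(X, U) (Sec A U) (Sec A (X.basicOpen r)) := IsScalarTower.of_algebraMap_eq fun _ => rfl
  haveI : IsScalarTower Γ(X, U) Γ(X, X.basicOpen r) (Sec A (X.basicOpen r)) :=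
    IsScalarTower.of_algebraMap_eq fun s => resA_str A (X.basicOpen_le r) s
  exact Algebra.trace_localization Γ(X, U) (Submonoid.powers r) a

theorem exists_based (hA : FlatMod.IsFinLocFree A.toModule) (x : X) (O : X.Opens) (hx : x ∈ O) :
    ∃ V : X.Opens, IsAffineOpen V ∧ x ∈ V ∧ V ≤ O ∧ Based A V := by
  obtain ⟨V, n, b, hV, hxV, hVO, hb⟩ := exists_basisOn hA x O hx
  exact ⟨V, hV, hxV, hVO, n, _, goodB_of_isBasisOn A hb⟩

/-- Functions agree if they agree near every point. -/
theorem fn_ext {U : X.Opens} {s t : Γ(X, U)}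
    (h : ∀ x ∈ U, ∃ (V : X.Opens) (hV : V ≤ U), x ∈ V ∧ rO hV s = rO hV t) : s = t := by
  choose V hV hxV heq using h
  exact TopCat.Sheaf.eq_of_locally_eq' X.sheaf (fun x : U => V x.1 x.2) U (fun x => homOfLE (hV x.1 x.2))
    (fun x hx => TopologicalSpace.Opens.mem_iSup.2 ⟨⟨x, hx⟩, hxV x hx⟩) s t (fun x => heq x.1 x.2)

theorem existsUnique_glue (hA : FlatMod.IsFinLocFree A.toModule) (U : X.Opens) (a : Sec A U) :
    ∃! t : Γ(X, U), ∀ (V : X.Opens) (h : V ≤ U), Based A V → rO h t = tr A V (resA A h a) := by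
  let ι := {V : X.Opens // V ≤ U ∧ Based A V}
  have hcov : U ≤ iSup fun V : ι => V.1 := fun x hx => by
    obtain ⟨V, -, hxV, hVU, hVb⟩ := exists_based hA x U hx
    exact TopologicalSpace.Opens.mem_iSup.2 ⟨⟨V, hVU, hVb⟩, hxV⟩
  obtain ⟨t, ht, hu⟩ := TopCat.Sheaf.existsUnique_gluing' X.sheaf (fun V : ι => V.1) U
    (fun V => homOfLE V.2.1) hcov (fun V => tr A V.1 (resA A V.2.1 a)) (fun V W => by
      show rO (inf_le_left : V.1 ⊓ W.1 ≤ V.1) (tr A V.1 (resA A V.2.1 a)) =
        rO (inf_le_right : V.1 ⊓ W.1 ≤ W.1) (tr A W.1 (resA A W.2.1 a))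
      rw [← tr_res V.2.2, ← tr_res W.2.2, resA_resA, resA_resA])
  exact ⟨t, fun V h hVb => ht ⟨V, h, hVb⟩, fun t' ht' => hu t' fun V => ht' V.1 V.2.1 V.2.2⟩

theorem exists_isTrace (hA : FlatMod.IsFinLocFree A.toModule) :
    ∃ τ : A.toModule ⟶ Coh.structureModule X, FinCov.IsTrace A τ := by
  choose φ hφ hu using fun U a => existsUnique_glue hA U a
  have hadd : ∀ (U : X.Opens) (a b : Sec A U), φ U (a + b) = φ U a + φ U b := fun U a b =>
    (hu U (a + b) (φ U a + φ U b) fun V h hV => by
      show rO h (φ U a + φ U b) = _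
      rw [map_add, map_add]
      refine (map_add (X.presheaf.map (homOfLE h).op).hom _ _).trans ?_
      exact congrArg₂ (· + ·) (hφ U a V h hV) (hφ U b V h hV)).symm
  have hsmul : ∀ (U : X.Opens) (r : Γ(X, U)) (a : Sec A U), φ U (r • a) = r * φ U a := fun U r a =>
    (hu U (r • a) (r * φ U a) fun V h hV => by
      show rO h (r * φ U a) = _
      rw [resA_smul, map_smul, smul_eq_mul]
      refine (map_mul (X.presheaf.map (homOfLE h).op).hom _ _).trans ?_
      exact congrArg (_ * ·) (hφ U a V h hV)).symm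
  have hnat : ∀ (U U' : X.Opens) (h : U' ≤ U) (a : Sec A U), φ U' (resA A h a) = rO h (φ U a) :=
    fun U U' h a => (hu U' (resA A h a) (rO h (φ U a)) fun V h' hV => by
      show rO h' (rO h (φ U a)) = _
      rw [rO_rO, resA_resA]
      exact hφ U a V _ hV).symm
  refine ⟨mkHom (M := A.toModule) (N := Coh.structureModule X) (fun U a => φ U a) (fun U a b => hadd U a b)
    (fun U r a => hsmul U r a) (fun U U' h a => hnat U U' h a), fun U hU hfree hfin a => ?_⟩
  show φ U a = tr A U a
  refine fn_ext fun x hx => ?_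
  obtain ⟨V, -, hxV, hVU, hVb⟩ := exists_based hA x U hx
  obtain ⟨r, hrV, hxr⟩ := hU.exists_basicOpen_le (V := V) ⟨x, hxV⟩ hx
  refine ⟨X.basicOpen r, X.basicOpen_le r, hxr, ?_⟩
  rw [hφ U a _ (X.basicOpen_le r) (hVb.mono hrV)]
  haveI : Module.Free Γ(X, U) (Sec A U) := hfree
  haveI : Module.Finite Γ(X, U) (Sec A U) := hfin
  exact tr_basicOpen hU r a

theorem isTrace_app {τ : A.toModule ⟶ Coh.structureModule X} (hτ : FinCov.IsTrace A τ) {V : X.Opens}
    (hV : IsAffineOpen V) (hVb : Based A V) (a : Sec A V) :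
    (show Γ(X, V) from τ.app V (show Γ(A.toModule, V) from a)) = tr A V a := by
  classical
  obtain ⟨n, b, hb⟩ := hVb
  exact hτ V hV (Module.Free.of_basis (hb.basis le_rfl)) (Module.Finite.of_basis (hb.basis le_rfl)) a

theorem isTrace_unique (hA : FlatMod.IsFinLocFree A.toModule) {τ τ' : A.toModule ⟶ Coh.structureModule X}
    (h : FinCov.IsTrace A τ) (h' : FinCov.IsTrace A τ') : τ = τ' := by
  refine hom_ext fun U a => ?_
  refine fn_ext fun x hx => ?_
  obtain ⟨V, hVaff, hxV, hVU, hVb⟩ := exists_based hA x U hx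
  refine ⟨V, hVU, hxV, ?_⟩
  refine (app_rM τ hVU a).symm.trans (Eq.trans ?_ (app_rM τ' hVU a))
  exact (isTrace_app h hVaff hVb _).trans (isTrace_app h' hVaff hVb _).symm

end Groth.L12.FinCov
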