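import Groth.Agent.L12.FinCov.Frame
import Groth.Agent.L21.Extend.Semilocal
import Groth.Agent.L16.QCohSections
import Mathlib.Topology.Sheaves.Forget
import Mathlib.Algebra.Category.Ring.Limits

/-!
# The algebra `O ⊕ L` of a pairing on an invertible module
-/

set_option autoImplicit false
set_option linter.style.haveILetI false
set_option backward.isDefEq.respectTransparency false
set_option backward.isDefEq.respectTransparency.types false

universe u

open CategoryTheory CategoryTheory.Limits AlgebraicGeometry TopologicalSpace Opposite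

noncomputable section

namespace Groth.L12.FinCov

variable {X : Scheme.{u}} {L : X.Modules} (hL : PicF.IsInvertible L)
  (m : CohB1.tensorMod L L ⟶ Coh.structureModule X)

/-- Pairs of a function and a section. -/
@[ext]
structure Dbl (hL : PicF.IsInvertible L) (m : CohB1.tensorMod L L ⟶ Coh.structureModule X)
    (U : X.Opens) : Type u where
  s : Γ(X, U)
  l : Γ(L, U)

namespace Dbl

variable {hL m} {U : X.Opens}

instance : Zero (Dbl hL m U) := ⟨⟨0, 0⟩⟩
instance : One (Dbl hL m U) := ⟨⟨1, 0⟩⟩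
instance : Add (Dbl hL m U) := ⟨fun x y => ⟨x.s + y.s, x.l + y.l⟩⟩
instance : Neg (Dbl hL m U) := ⟨fun x => ⟨-x.s, -x.l⟩⟩
instance : Mul (Dbl hL m U) :=
  ⟨fun x y => ⟨x.s * y.s + bm L m U x.l y.l, x.s • y.l + y.s • x.l⟩⟩

@[simp] lemma zero_s : (0 : Dbl hL m U).s = 0 := rfl
@[simp] lemma zero_l : (0 : Dbl hL m U).l = 0 := rfl
@[simp] lemma one_s : (1 : Dbl hL m U).s = 1 := rfl
@[simp] lemma one_l : (1 : Dbl hL m U).l = 0 := rfl
@[simp] lemma add_s (x y : Dbl hL m U) : (x + y).s = x.s + y.s := rfl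
@[simp] lemma add_l (x y : Dbl hL m U) : (x + y).l = x.l + y.l := rfl
@[simp] lemma neg_s (x : Dbl hL m U) : (-x).s = -x.s := rfl
@[simp] lemma neg_l (x : Dbl hL m U) : (-x).l = -x.l := rfl
@[simp] lemma mul_s (x y : Dbl hL m U) : (x * y).s = x.s * y.s + bm L m U x.l y.l := rfl
@[simp] lemma mul_l (x y : Dbl hL m U) : (x * y).l = x.s • y.l + y.s • x.l := rfl

instance : CommRing (Dbl hL m U) where
  add_assoc x y z := Dbl.ext (add_assoc _ _ _) (add_assoc _ _ _)
  zero_add x := Dbl.ext (zero_add _) (zero_add _)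
  add_zero x := Dbl.ext (add_zero _) (add_zero _)
  add_comm x y := Dbl.ext (add_comm _ _) (add_comm _ _)
  neg_add_cancel x := Dbl.ext (neg_add_cancel _) (neg_add_cancel _)
  nsmul := nsmulRec
  zsmul := zsmulRec
  mul_assoc x y z := by
    have hc := bm_comm (m := m) (isFinLocFreeOfRank_one_of_isInvertible hL) U
    refine Dbl.ext ?_ ?_
    · simp only [mul_s, mul_l, bm_add_left, bm_add_right, bm_smul_left, bm_smul_right]
      ring
    · simp only [mul_s, mul_l, smul_add, ← mul_smul, add_smul]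
      rw [bm_assoc (m := m) (isFinLocFreeOfRank_one_of_isInvertible hL) U x.l y.l z.l]
      rw [mul_comm z.s x.s, mul_comm z.s y.s]
      abel
  mul_comm x y := Dbl.ext
    (by simp only [mul_s]; rw [bm_comm (m := m) (isFinLocFreeOfRank_one_of_isInvertible hL) U x.l y.l, mul_comm])
    (by simp only [mul_l]; exact add_comm _ _)
  one_mul x := Dbl.ext (by simp [bm_zero_left]) (by simp)
  mul_one x := Dbl.ext (by simp [bm_zero_right]) (by simp)
  zero_mul x := Dbl.ext (by simp [bm_zero_left]) (by simp)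
  mul_zero x := Dbl.ext (by simp [bm_zero_right]) (by simp)
  left_distrib x y z := Dbl.ext (by simp [bm_add_right, mul_add]; ring) (by simp [smul_add, add_smul]; abel)
  right_distrib x y z := Dbl.ext (by simp [bm_add_left, add_mul]; ring) (by simp [smul_add, add_smul]; abel)

/-- Restriction. -/
def res {U V : X.Opens} (h : V ≤ U) : Dbl hL m U →+* Dbl hL m V where
  toFun x := ⟨rO h x.s, rM L h x.l⟩
  map_one' := Dbl.ext (map_one (X.presheaf.map (homOfLE h).op).hom) (map_zero (L.presheaf.map (homOfLE h).op).hom)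
  map_zero' := Dbl.ext (map_zero (X.presheaf.map (homOfLE h).op).hom) (map_zero (L.presheaf.map (homOfLE h).op).hom)
  map_add' x y := Dbl.ext (map_add (X.presheaf.map (homOfLE h).op).hom _ _)
    (map_add (L.presheaf.map (homOfLE h).op).hom _ _)
  map_mul' x y := Dbl.ext
    (by
      show rO h (x.s * y.s + bm L m U x.l y.l) = rO h x.s * rO h y.s + bm L m V (rM L h x.l) (rM L h y.l)
      rw [bm_res]
      exact (map_add (X.presheaf.map (homOfLE h).op).hom _ _).trans
        (congrArg (· + _) (map_mul (X.presheaf.map (homOfLE h).op).hom _ _)))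
    (by
      show rM L h (x.s • y.l + y.s • x.l) = rO h x.s • rM L h y.l + rO h y.s • rM L h x.l
      rw [← rM_smul, ← rM_smul]
      exact map_add (L.presheaf.map (homOfLE h).op).hom _ _)

/-- The structure map. -/
def incl : Γ(X, U) →+* Dbl hL m U where
  toFun r := ⟨r, 0⟩
  map_one' := rfl
  map_zero' := rfl
  map_add' r r' := Dbl.ext rfl (add_zero 0).symm
  map_mul' r r' := Dbl.ext (by simp [bm_zero_left]) (by simp)

lemma pow_incl_mul (r : Γ(X, U)) (n : ℕ) (x : Dbl hL m U) :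
    incl r ^ n * x = (⟨r ^ n * x.s, r ^ n • x.l⟩ : Dbl hL m U) := by
  rw [← map_pow]
  exact Dbl.ext (by simp [incl, bm_zero_left]) (by simp [incl])

end Dbl

/-- The presheaf of rings. -/
def dblPre : TopCat.Presheaf CommRingCat.{u} X.carrier where
  obj U := CommRingCat.of (Dbl hL m U.unop)
  map {U V} i := CommRingCat.ofHom (Dbl.res i.unop.le)
  map_id U := by
    refine CommRingCat.hom_ext (RingHom.ext fun (x : Dbl hL m U.unop) => ?_)
    exact Dbl.ext (hL := hL) (m := m) (x := Dbl.res (U := U.unop) (V := U.unop) le_rfl x) (y := x) (rO_self _ x.s) (rM_self L _ x.l)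
  map_comp {U V W} i j := by
    refine CommRingCat.hom_ext (RingHom.ext fun (x : Dbl hL m U.unop) => ?_)
    exact Dbl.ext (hL := hL) (m := m) (x := Dbl.res (j.unop.le.trans i.unop.le) x)
      (y := Dbl.res j.unop.le (Dbl.res i.unop.le x)) (rO_rO i.unop.le j.unop.le x.s).symm (rM_rM L i.unop.le j.unop.le x.l).symm

theorem isSheaf_dblPre : (dblPre hL m).IsSheaf := by
  rw [TopCat.Presheaf.isSheaf_iff_isSheaf_comp' (forget CommRingCat.{u}) (dblPre hL m),
    TopCat.Presheaf.isSheaf_iff_isSheafUniqueGluing]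
  intro ι U sf hsf
  have hs : ∀ i j, rO (inf_le_left : U i ⊓ U j ≤ U i) (sf i).s = rO (inf_le_right : U i ⊓ U j ≤ U j) (sf j).s :=
    fun i j => congrArg Dbl.s (hsf i j)
  have hl : ∀ i j, rM L (inf_le_left : U i ⊓ U j ≤ U i) (sf i).l = rM L (inf_le_right : U i ⊓ U j ≤ U j) (sf j).l :=
    fun i j => congrArg Dbl.l (hsf i j)
  obtain ⟨s, hs1, hs2⟩ := X.sheaf.existsUnique_gluing U (fun i => (sf i).s) hs
  obtain ⟨l, hl1, hl2⟩ := TopCat.Sheaf.existsUnique_gluing (⟨L.presheaf, L.isSheaf⟩ : TopCat.Sheaf Ab X.toTopCat) U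
    (fun i => (sf i).l) hl
  refine ⟨(⟨s, l⟩ : Dbl hL m (iSup U)), fun i => Dbl.ext (hs1 i) (hl1 i), fun y hy => ?_⟩
  exact Dbl.ext (hs2 y.s fun i => congrArg Dbl.s (hy i)) (hl2 y.l fun i => congrArg Dbl.l (hy i))

/-- The structure map of the algebra. -/
def dblStr : X.presheaf ⟶ dblPre hL m where
  app U := CommRingCat.ofHom (Dbl.incl (hL := hL) (m := m) (U := U.unop))
  naturality U V i := by
    ext r
    exact Dbl.ext rfl (map_zero (L.presheaf.map i.unop.op).hom).symm

theorem isQC_dbl : RelSpec.IsQC (dblPre hL m) (dblStr hL m) := by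
  intro U hU r
  haveI : Coh.IsQCoh L := Groth.L21.Extend.isQCoh_of_isInvertible hL
  haveI := hU.isLocalization_basicOpen r
  let ρ : Dbl hL m U →+* Dbl hL m (X.basicOpen r) := Dbl.res (X.basicOpen_le r)
  letI : Algebra (Dbl hL m U) (Dbl hL m (X.basicOpen r)) := ρ.toAlgebra
  show IsLocalization.Away (Dbl.incl (hL := hL) (m := m) r) (Dbl hL m (X.basicOpen r))
  have hu : IsUnit (rO (X.basicOpen_le r) r) := RingedSpace.isUnit_res_basicOpen X.toRingedSpace r
  refine ⟨?_, ?_, ?_⟩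
  · rintro ⟨_, n, rfl⟩
    show IsUnit (ρ (Dbl.incl r ^ n))
    rw [map_pow]
    refine IsUnit.pow n ?_
    have : ρ (Dbl.incl r) = Dbl.incl (hL := hL) (m := m) (rO (X.basicOpen_le r) r) :=
      Dbl.ext rfl (map_zero (L.presheaf.map _).hom)
    rw [this]
    exact hu.map _
  · intro z
    obtain ⟨⟨a, ⟨_, k, rfl⟩⟩, hk⟩ := IsLocalization.surj (Submonoid.powers r) z.s
    obtain ⟨n, t, ht⟩ := Groth.L16.QCohSect.exists_pow_smul_eq_res hU L r z.l
    refine ⟨⟨(⟨r ^ n * a, r ^ k • t⟩ : Dbl hL m U), ⟨_, k + n, rfl⟩⟩, ?_⟩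
    show z * ρ (Dbl.incl r ^ (k + n)) = ρ ⟨r ^ n * a, r ^ k • t⟩
    rw [← map_pow, show Dbl.incl (hL := hL) (m := m) (r ^ (k + n)) = ⟨r ^ (k + n), 0⟩ from rfl]
    have hk' : z.s * rO (X.basicOpen_le r) (r ^ k) = rO (X.basicOpen_le r) a := hk
    refine Dbl.ext ?_ ?_
    · show z.s * rO (X.basicOpen_le r) (r ^ (k + n)) + bm L m _ z.l (rM L (X.basicOpen_le r) 0) =
        rO (X.basicOpen_le r) (r ^ n * a)
      rw [show rM L (X.basicOpen_le r) (0 : Γ(L, U)) = 0 from map_zero _, bm_zero_right, add_zero, pow_add]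
      refine (congrArg (z.s * ·) (map_mul (X.presheaf.map _).hom _ _)).trans ?_
      rw [← mul_assoc]
      refine Eq.trans ?_ (map_mul (X.presheaf.map _).hom _ _).symm
      exact (congrArg (· * _) hk').trans (mul_comm _ _)
    · show z.s • rM L (X.basicOpen_le r) 0 + rO (X.basicOpen_le r) (r ^ (k + n)) • z.l =
        rM L (X.basicOpen_le r) (r ^ k • t)
      rw [show rM L (X.basicOpen_le r) (0 : Γ(L, U)) = 0 from map_zero _, smul_zero, zero_add, rM_smul,
        show rM L (X.basicOpen_le r) t = rO (X.basicOpen_le r) (r ^ n) • z.l from ht, ← mul_smul]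
      congr 1
      rw [pow_add]
      exact map_mul (X.presheaf.map _).hom _ _
  · intro x y hxy
    have hs : rO (X.basicOpen_le r) x.s = rO (X.basicOpen_le r) y.s := congrArg Dbl.s hxy
    have hl : rM L (X.basicOpen_le r) x.l = rM L (X.basicOpen_le r) y.l := congrArg Dbl.l hxy
    obtain ⟨⟨_, k, rfl⟩, hk⟩ := IsLocalization.exists_of_eq (M := Submonoid.powers r)
      (S := Γ(X, X.basicOpen r)) hs
    obtain ⟨n, hn⟩ := Groth.L16.QCohSect.exists_pow_smul_eq_zero hU L r (x.l - y.l)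
      ((map_sub (L.presheaf.map _).hom _ _).trans (sub_eq_zero.2 hl))
    refine ⟨⟨_, k + n, rfl⟩, ?_⟩
    show Dbl.incl r ^ (k + n) * x = Dbl.incl r ^ (k + n) * y
    rw [Dbl.pow_incl_mul, Dbl.pow_incl_mul]
    refine Dbl.ext ?_ ?_
    · show r ^ (k + n) * x.s = r ^ (k + n) * y.s
      have hk' : r ^ k * x.s = r ^ k * y.s := hk
      rw [pow_add, mul_comm (r ^ k) (r ^ n), mul_assoc, mul_assoc, hk']
    · show r ^ (k + n) • x.l = r ^ (k + n) • y.l
      rw [← sub_eq_zero, ← smul_sub, pow_add, mul_smul, hn, smul_zero]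

/-- The quasi-coherent algebra `O ⊕ L`. -/
def dblAlg : RelSpec.QCAlg X where
  presheaf := dblPre hL m
  isSheaf := isSheaf_dblPre hL m
  str := dblStr hL m
  isQC := isQC_dbl hL m

/-- The inclusion of `L`. -/
def dblJ : L ⟶ (dblAlg hL m).toModule :=
  mkHom (M := L) (N := (dblAlg hL m).toModule) (fun U l => (⟨0, l⟩ : Dbl hL m U))
    (fun U l l' => Dbl.ext (add_zero 0).symm rfl)
    (fun U r l => Dbl.ext
      (by show (0 : Γ(X, U)) = r * 0 + bm L m U 0 l; rw [mul_zero, bm_zero_left, add_zero])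
      (by show r • l = r • l + (0 : Γ(X, U)) • (0 : Γ(L, U)); rw [zero_smul, add_zero]))
    (fun U V h l => Dbl.ext (map_zero (X.presheaf.map (homOfLE h).op).hom).symm rfl)

theorem isDblAlg_dblAlg : FinCov.IsDblAlg L m (dblAlg hL m) (dblJ hL m) := by
  refine ⟨fun U => ⟨fun p q h => ?_, fun z => ⟨((z : Dbl hL m U).s, (z : Dbl hL m U).l), ?_⟩⟩,
    fun U l l' => ?_⟩
  · have h1 : (⟨p.1 + 0, 0 + (show Γ(L, U) from p.2)⟩ : Dbl hL m U) = ⟨q.1 + 0, 0 + (show Γ(L, U) from q.2)⟩ := h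
    rw [add_zero, zero_add, add_zero, zero_add] at h1
    exact Prod.ext (congrArg Dbl.s h1) (congrArg Dbl.l h1)
  · show (⟨(z : Dbl hL m U).s + 0, 0 + (z : Dbl hL m U).l⟩ : Dbl hL m U) = z
    rw [add_zero, zero_add]
    rfl
  · show (⟨0, l⟩ : Dbl hL m U) * ⟨0, l'⟩ = ⟨bm L m U l l', 0⟩
    refine Dbl.ext ?_ ?_
    · show (0 : Γ(X, U)) * 0 + bm L m U l l' = bm L m U l l'
      rw [zero_mul, zero_add]
    · show (0 : Γ(X, U)) • l' + (0 : Γ(X, U)) • l = 0
      rw [zero_smul, zero_smul, add_zero]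

end Groth.L12.FinCov
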