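import Groth.Agent.L12.FinCov.Trace
import Groth.Agent.L18.RelSpecAlg

/-!
# The direct image of the relative spectrum of a locally free algebra
-/

set_option autoImplicit false
set_option linter.style.haveILetI false
set_option backward.isDefEq.respectTransparency false
set_option backward.isDefEq.respectTransparency.types false

universe u

open CategoryTheory CategoryTheory.Limits AlgebraicGeometry TopologicalSpace Opposite

noncomputable section

namespace Groth.L12.FinCov

variable {X : Scheme.{u}} (A : RelSpec.QCAlg X)

attribute [local instance] algS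

/-- The comparison on sections. -/
def gam (V : X.Opens) : Γ(A.spec, A.π ⁻¹ᵁ V) →+* Sec A V := (A.gammaMap.app (op V)).hom

theorem bijective_gam (V : X.Opens) : Function.Bijective (gam A V) := by
  haveI := Groth.L18.RelSpecAlg.isIso_gammaMap A
  exact ConcreteCategory.bijective_of_isIso (A.gammaMap.app (op V))

theorem gam_π (V : X.Opens) (r : Γ(X, V)) :
    gam A V ((A.π.app V).hom r) = algebraMap Γ(X, V) (Sec A V) r :=
  ConcreteCategory.congr_hom (NatTrans.congr_app A.π_c_gammaMap (op V)) r

theorem gam_res {U V : X.Opens} (h : V ≤ U) (z : Γ(A.spec, A.π ⁻¹ᵁ U)) :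
    gam A V ((A.spec.presheaf.map (homOfLE (A.π.preimage_mono h)).op).hom z) = resA A h (gam A U z) :=
  ConcreteCategory.congr_hom (A.gammaMap.naturality (homOfLE h).op) z

theorem isFinLocFreeOfRank_push_spec {d : ℕ} (hA : FlatMod.IsFinLocFreeOfRank d A.toModule) :
    FlatMod.IsFinLocFreeOfRank d
      ((Scheme.Modules.pushforward A.π).obj (Coh.structureModule A.spec)) := by
  refine isFinLocFreeOfRank_of_bases fun x => ?_
  obtain ⟨V, b, -, hxV, -, hb⟩ := exists_basisOn_of_rank hA x ⊤ trivial
  choose c hc using fun i => (bijective_gam A V).2 (b i : Sec A V)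
  refine ⟨V, fun i => (c i : Γ(A.spec, A.π ⁻¹ᵁ V)), hxV, fun W hW => ?_⟩
  have key : ∀ k : Fin d → Γ(X, W),
      gam A W (∑ i, (A.π.app W).hom (k i) *
        (A.spec.presheaf.map (homOfLE (A.π.preimage_mono hW)).op).hom (c i)) =
      ∑ i, k i • resA A hW (b i : Sec A V) := fun k => by
    rw [map_sum]
    refine Finset.sum_congr rfl fun i _ => ?_
    rw [map_mul, gam_π, gam_res, hc, Algebra.smul_def]
  refine (Function.Bijective.of_comp_iff' (bijective_gam A W) _).1 ?_
  refine Eq.mp (congrArg Function.Bijective ?_) (goodB_of_isBasisOn A hb W hW)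
  funext k
  exact (key k).symm

end Groth.L12.FinCov
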